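import Groth.Agent.PinchModLib.Alg
import Groth.Agent.KFlatLib.AffinePull
import Groth.Agent.KFlatLib.TorAmpMore
import Groth.Agent.KFlatLib.PerfectPull
import Groth.Agent.KFlatLib.Stalk
import Groth.Agent.RelFlatLib.Basic
import Groth.Agent.CohCmpLib.IsoCrit
import Groth.Agent.ConsLib.ModLoci
import Groth.Agent.MiscFlat6.FreeStalks
import Groth.Agent.FittLib.Sheaf
import Groth.Prelude.Def_FlatMod2

/-!
# Quasi-coherent modules on a pinching square: criteria for vanishing, finite type, flatness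
-/

set_option autoImplicit false
set_option maxHeartbeats 2000000

universe u

open CategoryTheory CategoryTheory.Limits AlgebraicGeometry TopologicalSpace
open scoped TensorProduct

namespace PinchModLib

variable {X Y Y' : Scheme.{u}}

/-- The sections of a pullback along an affine morphism. -/
theorem exists_equiv (g : X ⟶ Y) [IsAffineHom g] (G : Y.Modules) [Coh.IsQCoh G] {V : Y.Opens}
    (hV : IsAffineOpen V) :
    letI := (g.app V).hom.toAlgebra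
    Nonempty (Γ(X, g ⁻¹ᵁ V) ⊗[Γ(Y, V)] Γ(G, V) ≃ₗ[Γ(X, g ⁻¹ᵁ V)]
      Γ((Scheme.Modules.pullback g).obj G, g ⁻¹ᵁ V)) := by
  let P := (Scheme.Modules.pullback g).obj G
  letI : Algebra Γ(Y, V) Γ(X, g ⁻¹ᵁ V) := (g.app V).hom.toAlgebra
  letI : Module Γ(Y, V) Γ(KFlatLib.pb g G, g ⁻¹ᵁ V) := Module.compHom _ (g.app V).hom
  haveI : IsScalarTower Γ(Y, V) Γ(X, g ⁻¹ᵁ V) Γ(KFlatLib.pb g G, g ⁻¹ᵁ V) :=
    IsScalarTower.of_algebraMap_smul fun _ _ => rfl
  let ψ : Γ(G, V) →ₗ[Γ(Y, V)] Γ(KFlatLib.pb g G, g ⁻¹ᵁ V) :=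
    { toFun := KFlatLib.puSecLE g G le_rfl
      map_add' := map_add _
      map_smul' := fun r m => by
        rw [KFlatLib.puSecLE_smul, RingHom.id_apply, Scheme.Hom.appLE_eq_app]
        rfl }
  have hbc := KFlatLib.isBaseChange_puSec g G hV (hV.preimage g) le_rfl
    (fun r => by rw [Scheme.Hom.appLE_eq_app]; rfl) ψ fun _ => rfl
  exact ⟨hbc.equiv⟩

theorem flat_sections {G : Y.Modules} [Coh.IsQCoh G] (h : FlatMod.IsFlat G) {V : Y.Opens}
    (hV : IsAffineOpen V) : Module.Flat Γ(Y, V) Γ(G, V) := by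
  have h' := CohCmpLib.flat_sections_over (𝟙 Y) G ((Groth.Agent.RelFlatLib.isFlatOver_id_iff G).mpr h) hV hV le_rfl
  have e : ((𝟙 Y : Y ⟶ Y).appLE V V le_rfl).hom = RingHom.id _ := by
    ext r
    simp [Scheme.Hom.appLE]
    exact congrArg (fun φ : Γ(Y, V) ⟶ Γ(Y, V) => φ.hom r) (Y.presheaf.map_id _)
  convert h'
  refine Module.ext ?_
  ext r m
  change r • m = ((𝟙 Y : Y ⟶ Y).appLE V V le_rfl).hom r • m
  rw [e]
  rfl

theorem flat_stalk {G : Y.Modules} [Coh.IsQCoh G] {V : Y.Opens} (hV : IsAffineOpen V)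
    [Module.Flat Γ(Y, V) Γ(G, V)] {x : Y} (hx : x ∈ V) : FlatMod.IsFlatAt G x := by
  letI := Module.compHom (G.presheaf.stalk x) (Y.presheaf.germ V x hx).hom
  letI : Algebra Γ(Y, V) (Y.presheaf.stalk x) := (Y.presheaf.germ V x hx).hom.toAlgebra
  haveI : IsScalarTower Γ(Y, V) (Y.presheaf.stalk x) (G.presheaf.stalk x) :=
    IsScalarTower.of_algebraMap_smul fun _ _ => rfl
  haveI : IsLocalization.AtPrime (Y.presheaf.stalk x) (hV.primeIdealOf ⟨x, hx⟩).asIdeal :=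
    hV.isLocalization_stalk ⟨x, hx⟩
  haveI := FlatLib.isLocalizedModule_germLin G hV hx
  exact Module.Flat.isBaseChange Γ(Y, V) (Y.presheaf.stalk x) Γ(G, V) (G.presheaf.stalk x)
    (IsLocalizedModule.isBaseChange (hV.primeIdealOf ⟨x, hx⟩).asIdeal.primeCompl (Y.presheaf.stalk x)
      (FlatLib.germLin G hx))

theorem subsingleton_sections {G : Y.Modules} (h : IsZero G) (V : Y.Opens) : Subsingleton Γ(G, V) := by
  refine subsingleton_of_forall_eq 0 fun s => ?_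
  exact congrArg (fun φ : G ⟶ G => φ.app V s) (h.eq_of_src (𝟙 G) 0)

theorem subsingleton_stalk {G : Y.Modules} [Coh.IsQCoh G] {V : Y.Opens} (hV : IsAffineOpen V)
    [Subsingleton Γ(G, V)] {x : Y} (hx : x ∈ V) : Subsingleton (G.presheaf.stalk x) := by
  letI := Module.compHom (G.presheaf.stalk x) (Y.presheaf.germ V x hx).hom
  haveI := FlatLib.isLocalizedModule_germLin G hV hx
  refine subsingleton_of_forall_eq 0 fun σ => ?_
  obtain ⟨⟨m, s⟩, hm⟩ := IsLocalizedModule.surj (hV.primeIdealOf ⟨x, hx⟩).asIdeal.primeCompl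
    (FlatLib.germLin G hx) σ
  rw [Subsingleton.elim m 0, map_zero] at hm
  exact IsLocalizedModule.smul_injective (FlatLib.germLin G hx) s (hm.trans (smul_zero _).symm)

variable (f : X ⟶ Y) (u : Y' ⟶ Y) [IsAffineHom f] [IsClosedImmersion u]
    (hM : ∀ V ∈ Y.affineOpens,
      RingHom.ker (f.app V).hom ⊓ RingHom.ker (u.app V).hom = ⊥ ∧
      ∀ a ∈ Ideal.map (f.app V).hom (RingHom.ker (u.app V).hom),
        ∃ i ∈ RingHom.ker (u.app V).hom, (f.app V).hom i = a)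
    (G : Y.Modules) [Coh.IsQCoh G]

include hM

theorem hI {V : Y.Opens} (hV : IsAffineOpen V) :
    ∀ a ∈ RingHom.ker (u.app V).hom, (f.app V).hom a = 0 → a = 0 := fun a ha h0 =>
  (Submodule.eq_bot_iff _).mp (hM V hV).1 a ⟨h0, ha⟩

theorem isZero (h1 : IsZero ((Scheme.Modules.pullback u).obj G))
    (h2 : IsZero ((Scheme.Modules.pullback f).obj G)) : IsZero G := by
  refine KFlatLib.isZero_of_stalks fun x => ?_
  obtain ⟨V, hV, hx, -⟩ := exists_isAffineOpen_mem_and_subset (x := x) (U := (⊤ : Y.Opens)) trivial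
  letI : Algebra Γ(Y, V) Γ(X, f ⁻¹ᵁ V) := (f.app V).hom.toAlgebra
  letI : Algebra Γ(Y, V) Γ(Y', u ⁻¹ᵁ V) := (u.app V).hom.toAlgebra
  obtain ⟨ef⟩ := exists_equiv f G hV
  obtain ⟨eu⟩ := exists_equiv u G hV
  haveI := subsingleton_sections h2 (f ⁻¹ᵁ V)
  haveI := subsingleton_sections h1 (u ⁻¹ᵁ V)
  haveI : Subsingleton (Γ(X, f ⁻¹ᵁ V) ⊗[Γ(Y, V)] Γ(G, V)) := ef.injective.subsingleton
  haveI := (quot_transfer (M := Γ(G, V)) (A' := Γ(Y', u ⁻¹ᵁ V)) (u.app_surjective V hV)).2.2.2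
    eu.injective.subsingleton
  haveI : Subsingleton Γ(G, V) :=
    PinchModLib.subsingleton (B := Γ(X, f ⁻¹ᵁ V)) (hI f u hM hV) (hM V hV).2
  exact subsingleton_stalk hV hx

theorem isFT (h1 : CohB1.IsFT ((Scheme.Modules.pullback u).obj G))
    (h2 : CohB1.IsFT ((Scheme.Modules.pullback f).obj G)) : CohB1.IsFT G := by
  refine QCohLib.isFT_of_finite fun x => ?_
  obtain ⟨V, hV, hx, -⟩ := exists_isAffineOpen_mem_and_subset (x := x) (U := (⊤ : Y.Opens)) trivial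
  refine ⟨V, hV, hx, ?_⟩
  letI : Algebra Γ(Y, V) Γ(X, f ⁻¹ᵁ V) := (f.app V).hom.toAlgebra
  letI : Algebra Γ(Y, V) Γ(Y', u ⁻¹ᵁ V) := (u.app V).hom.toAlgebra
  obtain ⟨ef⟩ := exists_equiv f G hV
  obtain ⟨eu⟩ := exists_equiv u G hV
  haveI := KFlatLib.isQCoh_pullback f G
  haveI := KFlatLib.isQCoh_pullback u G
  haveI := QCohLib.finite_of_isFT h2 (hV.preimage f)
  haveI := QCohLib.finite_of_isFT h1 (hV.preimage u)
  haveI : Module.Finite Γ(X, f ⁻¹ᵁ V) (Γ(X, f ⁻¹ᵁ V) ⊗[Γ(Y, V)] Γ(G, V)) := Module.Finite.equiv ef.symm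
  haveI := (quot_transfer (M := Γ(G, V)) (A' := Γ(Y', u ⁻¹ᵁ V)) (u.app_surjective V hV)).2.1
    (Module.Finite.equiv eu.symm)
  exact PinchModLib.finite (B := Γ(X, f ⁻¹ᵁ V)) (hI f u hM hV) (hM V hV).2

theorem flat_at {V : Y.Opens} (hV : IsAffineOpen V) (h1 : FlatMod.IsFlat ((Scheme.Modules.pullback u).obj G))
    (h2 : FlatMod.IsFlat ((Scheme.Modules.pullback f).obj G)) : Module.Flat Γ(Y, V) Γ(G, V) := by
  letI : Algebra Γ(Y, V) Γ(X, f ⁻¹ᵁ V) := (f.app V).hom.toAlgebra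
  letI : Algebra Γ(Y, V) Γ(Y', u ⁻¹ᵁ V) := (u.app V).hom.toAlgebra
  obtain ⟨ef⟩ := exists_equiv f G hV
  obtain ⟨eu⟩ := exists_equiv u G hV
  haveI := KFlatLib.isQCoh_pullback f G
  haveI := KFlatLib.isQCoh_pullback u G
  haveI := flat_sections h2 (hV.preimage f)
  haveI := flat_sections h1 (hV.preimage u)
  haveI : Module.Flat Γ(X, f ⁻¹ᵁ V) (Γ(X, f ⁻¹ᵁ V) ⊗[Γ(Y, V)] Γ(G, V)) := Module.Flat.of_linearEquiv ef
  haveI := (quot_transfer (M := Γ(G, V)) (A' := Γ(Y', u ⁻¹ᵁ V)) (u.app_surjective V hV)).1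
    (Module.Flat.of_linearEquiv eu)
  exact PinchModLib.flat (B := Γ(X, f ⁻¹ᵁ V)) (hI f u hM hV) (hM V hV).2

theorem isFlat (h1 : FlatMod.IsFlat ((Scheme.Modules.pullback u).obj G))
    (h2 : FlatMod.IsFlat ((Scheme.Modules.pullback f).obj G)) : FlatMod.IsFlat G := fun x => by
  obtain ⟨V, hV, hx, -⟩ := exists_isAffineOpen_mem_and_subset (x := x) (U := (⊤ : Y.Opens)) trivial
  haveI := flat_at f u hM G hV h1 h2
  exact flat_stalk hV hx

theorem isFinLocFree (h1 : FlatMod.IsFinLocFree ((Scheme.Modules.pullback u).obj G))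
    (h2 : FlatMod.IsFinLocFree ((Scheme.Modules.pullback f).obj G)) : FlatMod.IsFinLocFree G := by
  haveI := KFlatLib.isQCoh_pullback f G
  haveI := KFlatLib.isQCoh_pullback u G
  obtain ⟨fl1, fp1⟩ := MiscFlat6.isFlat_and_isFP_iff.mpr h1
  obtain ⟨fl2, fp2⟩ := MiscFlat6.isFlat_and_isFP_iff.mpr h2
  refine MiscFlat6.isFlat_and_isFP_iff.mp ⟨isFlat f u hM G fl1 fl2,
    RichLib.IsFPAffine.isFP_of_finitePresentation G fun x => ?_⟩
  obtain ⟨V, hV, hx, -⟩ := exists_isAffineOpen_mem_and_subset (x := x) (U := (⊤ : Y.Opens)) trivial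
  refine ⟨V, hV, hx, ?_⟩
  letI : Algebra Γ(Y, V) Γ(X, f ⁻¹ᵁ V) := (f.app V).hom.toAlgebra
  letI : Algebra Γ(Y, V) Γ(Y', u ⁻¹ᵁ V) := (u.app V).hom.toAlgebra
  obtain ⟨ef⟩ := exists_equiv f G hV
  obtain ⟨eu⟩ := exists_equiv u G hV
  haveI := FittLib.finitePresentation_affine _ fp2 (hV.preimage f)
  haveI := FittLib.finitePresentation_affine _ fp1 (hV.preimage u)
  haveI := flat_sections fl2 (hV.preimage f)
  haveI := flat_sections fl1 (hV.preimage u)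
  haveI : Module.Flat Γ(X, f ⁻¹ᵁ V) (Γ(X, f ⁻¹ᵁ V) ⊗[Γ(Y, V)] Γ(G, V)) := Module.Flat.of_linearEquiv ef
  haveI : Module.FinitePresentation Γ(X, f ⁻¹ᵁ V) (Γ(X, f ⁻¹ᵁ V) ⊗[Γ(Y, V)] Γ(G, V)) :=
    Module.FinitePresentation.of_equiv ef.symm
  haveI := (quot_transfer (M := Γ(G, V)) (A' := Γ(Y', u ⁻¹ᵁ V)) (u.app_surjective V hV)).1
    (Module.Flat.of_linearEquiv eu)
  haveI := (quot_transfer (M := Γ(G, V)) (A' := Γ(Y', u ⁻¹ᵁ V)) (u.app_surjective V hV)).2.2.1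
    (Module.FinitePresentation.of_equiv eu.symm)
  exact PinchModLib.finitePresentation (B := Γ(X, f ⁻¹ᵁ V)) (hI f u hM hV) (hM V hV).2

end PinchModLib
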