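import Mathlib

/-!
# Modules over a ring with a Milnor square

`I` an ideal of `A` mapped bijectively onto an ideal of `B`: properties of an `A`-module are detected
on its base changes to `B` and to `A ⧸ I`.
-/

set_option autoImplicit false

universe u

open TensorProduct

namespace PinchModLib

variable {A : Type u} [CommRing A] {M : Type u} [AddCommGroup M] [Module A M]

/-- Tensoring with `M` keeps `S`-linear injections injective when `S ⊗ M` is flat. -/
theorem rTensor_injective {S : Type u} [CommRing S] [Algebra A S] [Module.Flat S (S ⊗[A] M)]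
    {N₁ N₂ : Type u} [AddCommGroup N₁] [Module A N₁] [Module S N₁] [IsScalarTower A S N₁]
    [AddCommGroup N₂] [Module A N₂] [Module S N₂] [IsScalarTower A S N₂] (φ : N₁ →ₗ[S] N₂)
    (h : Function.Injective φ) : Function.Injective ((φ.restrictScalars A).rTensor M) := by
  let e₁ := AlgebraTensorModule.cancelBaseChange A S S N₁ M
  let e₂ := AlgebraTensorModule.cancelBaseChange A S S N₂ M
  have key : ∀ x, (φ.restrictScalars A).rTensor M (e₁ x) = e₂ (φ.rTensor (S ⊗[A] M) x) := by
    intro x
    induction x using TensorProduct.induction_on with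
    | zero => simp
    | add x y hx hy => simp only [map_add, hx, hy]
    | tmul n t =>
      induction t using TensorProduct.induction_on with
      | zero => simp
      | add t t' ht ht' => simp only [tmul_add, map_add, ht, ht']
      | tmul s m => simp [e₁, e₂]
  intro x y hxy
  obtain ⟨x, rfl⟩ := e₁.surjective x
  obtain ⟨y, rfl⟩ := e₁.surjective y
  rw [key, key] at hxy
  rw [Module.Flat.rTensor_preserves_injective_linearMap φ h (e₂.injective hxy)]

variable (I : Ideal A)

/-- The same for maps of modules killed by `I`. -/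
theorem rTensor_injective_quot [Module.Flat (A ⧸ I) ((A ⧸ I) ⊗[A] M)]
    {N₁ N₂ : Type u} [AddCommGroup N₁] [Module A N₁] [AddCommGroup N₂] [Module A N₂]
    (h₁ : Module.IsTorsionBySet A N₁ (I : Set A)) (h₂ : Module.IsTorsionBySet A N₂ (I : Set A))
    (φ : N₁ →ₗ[A] N₂) (h : Function.Injective φ) : Function.Injective (φ.rTensor M) := by
  letI := h₁.module
  letI := h₂.module
  haveI : IsScalarTower A (A ⧸ I) N₁ := h₁.isScalarTower
  haveI : IsScalarTower A (A ⧸ I) N₂ := h₂.isScalarTower
  exact rTensor_injective (LinearMap.extendScalarsOfSurjective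
    (Ideal.Quotient.mk_surjective (I := I)) φ) h

/-- Tensoring with `M` keeps bijections bijective. -/
theorem rTensor_bijective {N₁ N₂ : Type u} [AddCommGroup N₁] [Module A N₁] [AddCommGroup N₂] [Module A N₂]
    (φ : N₁ →ₗ[A] N₂) (h : Function.Bijective φ) : Function.Bijective (φ.rTensor M) :=
  ((LinearEquiv.ofBijective φ h).rTensor M).bijective

variable {B : Type u} [CommRing B] [Algebra A B]

/-- The map from an ideal to its extension. -/
noncomputable def toMap (J : Ideal A) : J →ₗ[A] J.map (algebraMap A B) where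
  toFun x := ⟨algebraMap A B x, Ideal.mem_map_of_mem _ x.2⟩
  map_add' x y := Subtype.ext (map_add _ _ _)
  map_smul' a x := Subtype.ext (by simp [Algebra.smul_def])

variable {I}

theorem subtype_comp_toMap (J : Ideal A) :
    ((J.map (algebraMap A B)).subtype.restrictScalars A).comp (toMap J) =
      (Algebra.linearMap A B).comp J.subtype := LinearMap.ext fun _ => rfl

theorem image_mul (hI' : ∀ b ∈ I.map (algebraMap A B), ∃ i ∈ I, algebraMap A B i = b) (J : Ideal A)
    {b : B} (hb : b ∈ (I * J).map (algebraMap A B)) : ∃ p ∈ I * J, algebraMap A B p = b := by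
  refine Submodule.span_induction ?_ ⟨0, zero_mem _, map_zero _⟩ ?_ ?_ hb
  · rintro _ ⟨p, hp, rfl⟩
    exact ⟨p, hp, rfl⟩
  · rintro x y - - ⟨p, hp, rfl⟩ ⟨q, hq, rfl⟩
    exact ⟨p + q, add_mem hp hq, map_add _ _ _⟩
  · rintro c x - ⟨p, hp, rfl⟩
    refine Submodule.mul_induction_on hp (fun i hi j hj => ?_) fun x y hx hy => ?_
    · obtain ⟨i', hi', he⟩ := hI' (c * algebraMap A B i) (Ideal.mul_mem_left _ c (Ideal.mem_map_of_mem _ hi))
      exact ⟨i' * j, Ideal.mul_mem_mul hi' hj, by simp [he, mul_assoc, smul_eq_mul]⟩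
    · obtain ⟨p, hp, hpe⟩ := hx
      obtain ⟨q, hq, hqe⟩ := hy
      exact ⟨p + q, add_mem hp hq, by rw [map_add, hpe, hqe, map_add, smul_add]⟩

theorem toMap_bijective (hI : ∀ a ∈ I, algebraMap A B a = 0 → a = 0) (J : Ideal A) (hJ : J ≤ I)
    (hs : ∀ b ∈ J.map (algebraMap A B), ∃ p ∈ J, algebraMap A B p = b) :
    Function.Bijective (toMap (B := B) J) := by
  refine ⟨(injective_iff_map_eq_zero _).mpr fun x hx => Subtype.ext
    (hI _ (hJ x.2) (congrArg Subtype.val hx)), fun b => ?_⟩
  obtain ⟨p, hp, he⟩ := hs b.1 b.2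
  exact ⟨⟨p, hp⟩, Subtype.ext he⟩

variable [Module.Flat (A ⧸ I) ((A ⧸ I) ⊗[A] M)] [Module.Flat B (B ⊗[A] M)]

theorem injective_of_le (hI : ∀ a ∈ I, algebraMap A B a = 0 → a = 0)
    (hI' : ∀ b ∈ I.map (algebraMap A B), ∃ i ∈ I, algebraMap A B i = b) (J : Ideal A) (hJ : J ≤ I) :
    Function.Injective (J.subtype.rTensor M) := by
  rw [injective_iff_map_eq_zero]
  intro x hx
  let Q : Ideal B := (I * J).map (algebraMap A B)
  let Jb : Ideal B := J.map (algebraMap A B)
  have h1 : (toMap (B := B) J).rTensor M x = 0 := by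
    refine rTensor_injective Jb.subtype Subtype.val_injective ?_
    rw [map_zero, ← LinearMap.comp_apply, ← LinearMap.rTensor_comp, subtype_comp_toMap,
      LinearMap.rTensor_comp, LinearMap.comp_apply, hx, map_zero]
  let P : Submodule A J := Submodule.comap J.subtype (I * J)
  let Q' : Submodule A Jb := (Submodule.comap Jb.subtype Q).restrictScalars A
  have hP : P ≤ LinearMap.ker (Q'.mkQ.comp (toMap (B := B) J)) := fun p hp => by
    rw [LinearMap.mem_ker, LinearMap.comp_apply, Submodule.mkQ_apply, Submodule.Quotient.mk_eq_zero]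
    exact Ideal.mem_map_of_mem _ hp
  let χ : (J ⧸ P) →ₗ[A] (Jb ⧸ Q') := P.liftQ _ hP
  have hχ : Function.Injective χ := by
    refine LinearMap.ker_eq_bot.mp (Submodule.ker_liftQ_eq_bot _ _ _ fun j hj => ?_)
    rw [LinearMap.mem_ker, LinearMap.comp_apply, Submodule.mkQ_apply, Submodule.Quotient.mk_eq_zero] at hj
    obtain ⟨p, hp, he⟩ := image_mul hI' J (b := algebraMap A B j) hj
    have h0 := hI (j - p) (sub_mem (hJ j.2) (Ideal.mul_le_left hp)) (by rw [map_sub, he, sub_self])
    show (j : A) ∈ I * J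
    rwa [sub_eq_zero.mp h0]
  have t₁ : Module.IsTorsionBySet A (J ⧸ P) (I : Set A) := by
    intro y a
    obtain ⟨y, rfl⟩ := Submodule.mkQ_surjective _ y
    rw [Submodule.mkQ_apply, ← Submodule.Quotient.mk_smul, Submodule.Quotient.mk_eq_zero]
    exact Ideal.mul_mem_mul a.2 y.2
  have t₂ : Module.IsTorsionBySet A (Jb ⧸ Q') (I : Set A) := by
    intro y a
    obtain ⟨y, rfl⟩ := Submodule.mkQ_surjective _ y
    rw [Submodule.mkQ_apply, ← Submodule.Quotient.mk_smul, Submodule.Quotient.mk_eq_zero]
    show ((a : A) • y : Jb).1 ∈ Q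
    rw [Submodule.coe_smul_of_tower, Algebra.smul_def, show Q = I.map (algebraMap A B) * Jb from Ideal.map_mul _ _ _]
    exact Ideal.mul_mem_mul (Ideal.mem_map_of_mem _ a.2) y.2
  have h2 : P.mkQ.rTensor M x = 0 := by
    refine rTensor_injective_quot I t₁ t₂ χ hχ ?_
    rw [map_zero, ← LinearMap.comp_apply, ← LinearMap.rTensor_comp,
      show χ.comp P.mkQ = Q'.mkQ.comp (toMap (B := B) J) from Submodule.liftQ_mkQ _ _ _,
      LinearMap.rTensor_comp, LinearMap.comp_apply, h1, map_zero]
  obtain ⟨y, rfl⟩ := (rTensor_exact M (LinearMap.exact_subtype_mkQ P) P.mkQ_surjective x).mp h2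
  let e : P →ₗ[A] ↥(I * J) :=
    LinearMap.codRestrict (I * J) (J.subtype.comp P.subtype) fun p => p.2
  have he : Function.Injective e := fun p q h => Subtype.ext (Subtype.ext (congrArg Subtype.val h :))
  have hbij : Function.Bijective ((toMap (B := B) (I * J)).comp e) := by
    refine (toMap_bijective hI (I * J) Ideal.mul_le_left fun b hb => image_mul hI' J hb).comp
      ⟨he, fun p => ?_⟩
    exact ⟨⟨⟨p.1, Ideal.mul_le_right p.2⟩, p.2⟩, rfl⟩
  have hy : ((toMap (B := B) (I * J)).comp e).rTensor M y = 0 := by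
    refine rTensor_injective Q.subtype Subtype.val_injective ?_
    rw [map_zero, ← LinearMap.comp_apply, ← LinearMap.rTensor_comp,
      show ((Q.subtype.restrictScalars A).comp ((toMap (B := B) (I * J)).comp e)) =
        (Algebra.linearMap A B).comp (J.subtype.comp P.subtype) from LinearMap.ext fun _ => rfl,
      LinearMap.rTensor_comp, LinearMap.rTensor_comp, LinearMap.comp_apply, LinearMap.comp_apply,
      hx, map_zero]
  rw [(rTensor_bijective _ hbij).1 (hy.trans (map_zero _).symm), map_zero]

/-- Flatness is detected on the two base changes. -/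
theorem flat (hI : ∀ a ∈ I, algebraMap A B a = 0 → a = 0)
    (hI' : ∀ b ∈ I.map (algebraMap A B), ∃ i ∈ I, algebraMap A B i = b) : Module.Flat A M := by
  rw [Module.Flat.iff_rTensor_injective']
  intro J
  rw [injective_iff_map_eq_zero]
  intro x hx
  let Jq : Submodule A (A ⧸ I) := Submodule.map (Submodule.mkQ I) J
  let ψ : J →ₗ[A] Jq := (Submodule.mkQ I).submoduleMap J
  have t₁ : Module.IsTorsionBySet A Jq (I : Set A) := fun y a => Subtype.ext (by
    obtain ⟨z, hz⟩ := Ideal.Quotient.mk_surjective y.1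
    show (a : A) • y.1 = 0
    rw [← hz, Algebra.smul_def, Ideal.Quotient.algebraMap_eq, Ideal.Quotient.eq_zero_iff_mem.mpr a.2,
      zero_mul])
  have t₂ : Module.IsTorsionBySet A (A ⧸ I) (I : Set A) := fun y a => by
    rw [Algebra.smul_def, Ideal.Quotient.algebraMap_eq, Ideal.Quotient.eq_zero_iff_mem.mpr a.2,
      zero_mul]
  have h1 : ψ.rTensor M x = 0 := by
    refine rTensor_injective_quot I t₁ t₂ Jq.subtype Subtype.val_injective ?_
    rw [map_zero, ← LinearMap.comp_apply, ← LinearMap.rTensor_comp,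
      show Jq.subtype.comp ψ = (Submodule.mkQ I).comp J.subtype from LinearMap.ext fun _ => rfl,
      LinearMap.rTensor_comp, LinearMap.comp_apply, hx, map_zero]
  have hex : Function.Exact (LinearMap.ker ψ).subtype ψ := LinearMap.exact_subtype_ker_map ψ
  obtain ⟨y, rfl⟩ := (rTensor_exact M hex (LinearMap.submoduleMap_surjective _ _) x).mp h1
  have hmem : ∀ z : LinearMap.ker ψ, (z.1 : A) ∈ I ⊓ J := fun z =>
    ⟨(Submodule.Quotient.mk_eq_zero I).mp (congrArg Subtype.val (LinearMap.mem_ker.mp z.2)), z.1.2⟩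
  let e : LinearMap.ker ψ →ₗ[A] ↥(I ⊓ J) :=
    LinearMap.codRestrict (I ⊓ J) (J.subtype.comp (LinearMap.ker ψ).subtype) hmem
  have hbij : Function.Bijective e :=
    ⟨fun p q h => Subtype.ext (Subtype.ext (congrArg Subtype.val h :)), fun p =>
      ⟨⟨⟨p.1, p.2.2⟩, LinearMap.mem_ker.mpr (Subtype.ext ((Submodule.Quotient.mk_eq_zero I).mpr p.2.1))⟩,
        rfl⟩⟩
  have hy : e.rTensor M y = 0 := by
    refine injective_of_le hI hI' (I ⊓ J) inf_le_left ?_
    rw [map_zero, ← LinearMap.comp_apply, ← LinearMap.rTensor_comp,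
      show (I ⊓ J).subtype.comp e = J.subtype.comp (LinearMap.ker ψ).subtype from LinearMap.ext fun _ => rfl,
      LinearMap.rTensor_comp, LinearMap.comp_apply, hx]
  rw [(rTensor_bijective _ hbij).1 (hy.trans (map_zero _).symm), map_zero]

omit [Module.Flat (A ⧸ I) ((A ⧸ I) ⊗[A] M)] [Module.Flat B (B ⊗[A] M)] in
/-- Vanishing is detected on the two base changes. -/
theorem subsingleton (hI : ∀ a ∈ I, algebraMap A B a = 0 → a = 0)
    (hI' : ∀ b ∈ I.map (algebraMap A B), ∃ i ∈ I, algebraMap A B i = b)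
    [Subsingleton ((A ⧸ I) ⊗[A] M)] [Subsingleton (B ⊗[A] M)] : Subsingleton M := by
  refine subsingleton_of_forall_eq 0 fun m => ?_
  obtain ⟨y, hy⟩ := (rTensor_exact M (LinearMap.exact_subtype_mkQ I) (Submodule.mkQ_surjective I)
    ((1 : A) ⊗ₜ[A] m)).mp (Subsingleton.elim (α := (A ⧸ I) ⊗[A] M) _ _)
  haveI : Subsingleton (↥(I.map (algebraMap A B)) ⊗[B] (B ⊗[A] M)) := by
    refine subsingleton_of_forall_eq 0 fun t => ?_
    induction t using TensorProduct.induction_on with
    | zero => rfl
    | add a b ha hb => rw [ha, hb, add_zero]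
    | tmul a b => rw [Subsingleton.elim b 0, tmul_zero]
  haveI : Subsingleton (↥(I.map (algebraMap A B)) ⊗[A] M) :=
    (AlgebraTensorModule.cancelBaseChange A B B ↥(I.map (algebraMap A B)) M).symm.injective.subsingleton
  have h0 : y = 0 := (rTensor_bijective _ (toMap_bijective hI I le_rfl hI')).1 (Subsingleton.elim _ _)
  rw [h0, map_zero] at hy
  simpa using congrArg (TensorProduct.lid A M) hy.symm

omit [Module.Flat (A ⧸ I) ((A ⧸ I) ⊗[A] M)] [Module.Flat B (B ⊗[A] M)] in
/-- Finite generation is detected on the two base changes. -/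
theorem finite (hI : ∀ a ∈ I, algebraMap A B a = 0 → a = 0)
    (hI' : ∀ b ∈ I.map (algebraMap A B), ∃ i ∈ I, algebraMap A B i = b)
    [Module.Finite (A ⧸ I) ((A ⧸ I) ⊗[A] M)] [Module.Finite B (B ⊗[A] M)] : Module.Finite A M := by
  classical
  obtain ⟨s, hs⟩ := (Module.Finite.fg_top : (⊤ : Submodule (A ⧸ I) ((A ⧸ I) ⊗[A] M)).FG)
  obtain ⟨t, ht⟩ := (Module.Finite.fg_top : (⊤ : Submodule B (B ⊗[A] M)).FG)
  obtain ⟨N₁, hN₁, h₁⟩ := exists_finite_submodule_right_of_setFinite (s : Set ((A ⧸ I) ⊗[A] M)) s.finite_toSet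
  obtain ⟨N₂, hN₂, h₂⟩ := exists_finite_submodule_right_of_setFinite (t : Set (B ⊗[A] M)) t.finite_toSet
  let N := N₁ ⊔ N₂
  have key : ∀ (S : Type u) [CommRing S] [Algebra A S] (N' : Submodule A M), N' ≤ N →
      ∀ s : Set (S ⊗[A] M), Submodule.span S s = ⊤ →
      s ⊆ LinearMap.range (N'.subtype.lTensor S) → Subsingleton (S ⊗[A] (M ⧸ N)) := by
    intro S _ _ N' hle s hs hrange
    refine subsingleton_of_forall_eq 0 fun z => ?_
    obtain ⟨z, rfl⟩ := LinearMap.lTensor_surjective S N.mkQ_surjective z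
    have hz : z ∈ Submodule.span S s := hs.ge Submodule.mem_top
    show (N.mkQ.baseChange S) z = 0
    induction hz using Submodule.span_induction with
    | mem y hy =>
      obtain ⟨w, rfl⟩ := hrange hy
      show N.mkQ.lTensor S (N'.subtype.lTensor S w) = 0
      rw [← LinearMap.comp_apply, ← LinearMap.lTensor_comp,
        show N.mkQ.comp N'.subtype = 0 from LinearMap.ext fun n =>
          (Submodule.Quotient.mk_eq_zero _).mpr (hle n.2), LinearMap.lTensor_zero, LinearMap.zero_apply]
    | zero => exact map_zero _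
    | add a b _ _ ha hb => rw [map_add, ha, hb, add_zero]
    | smul c a _ ha => rw [map_smul, ha, smul_zero]
  haveI := key (A ⧸ I) N₁ le_sup_left _ hs h₁
  haveI := key B N₂ le_sup_right _ ht h₂
  haveI : Subsingleton (M ⧸ N) := subsingleton hI hI'
  have hN : N = ⊤ := Submodule.Quotient.subsingleton_iff.mp inferInstance
  have hfg : N.FG := (Module.Finite.iff_fg.mp hN₁).sup (Module.Finite.iff_fg.mp hN₂)
  exact ⟨hN ▸ hfg⟩

/-- Finite presentation is detected on the two base changes, for flat modules. -/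
theorem finitePresentation (hI : ∀ a ∈ I, algebraMap A B a = 0 → a = 0)
    (hI' : ∀ b ∈ I.map (algebraMap A B), ∃ i ∈ I, algebraMap A B i = b)
    [Module.FinitePresentation (A ⧸ I) ((A ⧸ I) ⊗[A] M)]
    [Module.FinitePresentation B (B ⊗[A] M)] : Module.FinitePresentation A M := by
  haveI := finite (M := M) hI hI'
  haveI := flat (M := M) hI hI'
  obtain ⟨n, f, hf⟩ := Module.Finite.exists_fin' A M
  have key : ∀ (S : Type u) [CommRing S] [Algebra A S], Module.FinitePresentation S (S ⊗[A] M) →
      Module.Finite S (S ⊗[A] LinearMap.ker f) := by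
    intro S _ _ h
    have hex : Function.Exact (LinearMap.ker f).subtype f := LinearMap.exact_subtype_ker_map f
    have hi : Function.Injective ((LinearMap.ker f).subtype.lTensor S) :=
      LinearMap.lTensor_injective_of_exact_of_flat f hf _ Subtype.val_injective hex S
    have hk : (LinearMap.ker (f.baseChange S)).FG :=
      Module.FinitePresentation.fg_ker _ (LinearMap.lTensor_surjective S hf)
    have he : LinearMap.range ((LinearMap.ker f).subtype.baseChange S) = LinearMap.ker (f.baseChange S) := by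
      ext z
      exact ((lTensor_exact S hex hf) z).symm
    haveI : Module.Finite S (LinearMap.range ((LinearMap.ker f).subtype.baseChange S)) :=
      Module.Finite.iff_fg.mpr (he ▸ hk)
    exact Module.Finite.equiv (LinearEquiv.ofInjective ((LinearMap.ker f).subtype.baseChange S) hi).symm
  haveI := key (A ⧸ I) inferInstance
  haveI := key B inferInstance
  exact Module.finitePresentation_of_surjective f hf
    (Module.Finite.iff_fg.mp (finite (M := LinearMap.ker f) hI hI'))

end PinchModLib

namespace PinchModLib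

variable {A : Type u} [CommRing A] {M : Type u} [AddCommGroup M] [Module A M]

/-- The base change to `A ⧸ I`, from a ring isomorphic to it. -/
theorem quot_transfer {A' : Type u} [CommRing A'] [Algebra A A'] (hs : Function.Surjective (algebraMap A A')) :
    (Module.Flat A' (A' ⊗[A] M) → Module.Flat (A ⧸ RingHom.ker (algebraMap A A'))
        ((A ⧸ RingHom.ker (algebraMap A A')) ⊗[A] M)) ∧
      (Module.Finite A' (A' ⊗[A] M) → Module.Finite (A ⧸ RingHom.ker (algebraMap A A'))
        ((A ⧸ RingHom.ker (algebraMap A A')) ⊗[A] M)) ∧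
      (Module.FinitePresentation A' (A' ⊗[A] M) → Module.FinitePresentation (A ⧸ RingHom.ker (algebraMap A A'))
        ((A ⧸ RingHom.ker (algebraMap A A')) ⊗[A] M)) ∧
      (Subsingleton (A' ⊗[A] M) → Subsingleton ((A ⧸ RingHom.ker (algebraMap A A')) ⊗[A] M)) := by
  let e : (A ⧸ RingHom.ker (algebraMap A A')) ≃+* A' := RingHom.quotientKerEquivOfSurjective hs
  letI : Algebra A' (A ⧸ RingHom.ker (algebraMap A A')) := e.symm.toRingHom.toAlgebra
  haveI : IsScalarTower A A' (A ⧸ RingHom.ker (algebraMap A A')) :=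
    IsScalarTower.of_algebraMap_eq fun a => (e.symm_apply_apply (algebraMap A _ a)).symm
  let c := AlgebraTensorModule.cancelBaseChange A A' (A ⧸ RingHom.ker (algebraMap A A'))
    (A ⧸ RingHom.ker (algebraMap A A')) M
  refine ⟨fun h => ?_, fun h => ?_, fun h => ?_, fun h => ?_⟩
  · exact Module.Flat.of_linearEquiv c.symm
  · exact Module.Finite.equiv c
  · exact Module.FinitePresentation.of_equiv c
  · haveI : Subsingleton ((A ⧸ RingHom.ker (algebraMap A A')) ⊗[A'] (A' ⊗[A] M)) := by
      refine subsingleton_of_forall_eq 0 fun t => ?_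
      induction t using TensorProduct.induction_on with
      | zero => rfl
      | add a b ha hb => rw [ha, hb, add_zero]
      | tmul a b => rw [Subsingleton.elim b 0, tmul_zero]
    exact c.symm.injective.subsingleton

end PinchModLib
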